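import Mathlib

/-!
# Representations of finite dimensional simple algebras

Two representations of a finite dimensional simple algebra of the same dimension are isomorphic, and the
commutant of a representation is simple of the expected dimension.
-/

namespace Groth.Agent.CSALib

universe u v w w'

variable {k : Type u} [Field k] {R : Type v} [Ring R] [Algebra k R] [IsSimpleRing R]

/-- Simple modules over a simple ring with a simple left ideal are isomorphic to that ideal. -/
theorem nonempty_equiv_of_isSimpleModule (S : Ideal R) [IsSimpleModule R S] (m : Type w) [AddCommGroup m]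
    [Module R m] [IsSimpleModule R m] : Nonempty (m ≃ₗ[R] S) := by
  haveI : Nontrivial m := IsSimpleModule.nontrivial R m
  haveI : Nontrivial S := IsSimpleModule.nontrivial R S
  obtain ⟨s, hs⟩ := exists_ne (0 : S)
  haveI : Nontrivial (AddMonoid.End m) := ⟨⟨1, 0, fun h => by
    obtain ⟨x, hx⟩ := exists_ne (0 : m)
    exact hx (DFunLike.congr_fun h x)⟩⟩
  have hinj : Function.Injective (Module.toAddMonoidEnd R m) := (Module.toAddMonoidEnd R m).injective
  obtain ⟨x, hx⟩ : ∃ x : m, (s : R) • x ≠ 0 := by
    by_contra hcon
    push Not at hcon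
    refine hs (Subtype.ext (hinj ?_))
    ext x
    show (s : R) • x = ((0 : S) : R) • x
    rw [hcon x, ZeroMemClass.coe_zero, zero_smul]
  let f : S →ₗ[R] m := (LinearMap.toSpanSingleton R m x).comp S.subtype
  have hf : f ≠ 0 := fun h => hx (by simpa [f] using LinearMap.congr_fun h s)
  exact ⟨(LinearEquiv.ofBijective f (LinearMap.bijective_of_ne_zero hf)).symm⟩

/-- Every finitely generated module is a power of a given simple left ideal. -/
theorem exists_linearEquiv_fun [IsArtinianRing R] (S : Ideal R) [IsSimpleModule R S] (M : Type w)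
    [AddCommGroup M] [Module R M] [Module.Finite R M] : ∃ n : ℕ, Nonempty (M ≃ₗ[R] Fin n → S) :=
  IsIsotypicOfType.linearEquiv_fun fun m _ => nonempty_equiv_of_isSimpleModule S m

variable [FiniteDimensional k R] {V : Type w} [AddCommGroup V] [Module k V] [FiniteDimensional k V]

/-- Representations of a simple algebra of equal dimension are isomorphic. -/
theorem exists_intertwiner {W : Type w'} [AddCommGroup W] [Module k W] [FiniteDimensional k W]
    (ρ : R →ₐ[k] Module.End k V) (σ : R →ₐ[k] Module.End k W)
    (h : Module.finrank k V = Module.finrank k W) :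
    ∃ T : V ≃ₗ[k] W, ∀ r x, T (ρ r x) = σ r (T x) := by
  letI : Module R V := Module.compHom V ρ.toRingHom
  letI : Module R W := Module.compHom W σ.toRingHom
  have hV : ∀ (r : R) (x : V), r • x = ρ r x := fun r x => rfl
  have hW : ∀ (r : R) (x : W), r • x = σ r x := fun r x => rfl
  haveI : IsScalarTower k R V := ⟨fun c r x => by rw [hV, hV, map_smul, LinearMap.smul_apply]⟩
  haveI : IsScalarTower k R W := ⟨fun c r x => by rw [hW, hW, map_smul, LinearMap.smul_apply]⟩
  haveI : Module.Finite R V := Module.Finite.of_restrictScalars_finite k R V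
  haveI : Module.Finite R W := Module.Finite.of_restrictScalars_finite k R W
  haveI : IsArtinianRing R := IsArtinianRing.of_finite k R
  obtain ⟨S, hS⟩ := IsSemisimpleModule.exists_simple_submodule R R
  haveI := hS
  obtain ⟨n, ⟨e⟩⟩ := exists_linearEquiv_fun S V
  obtain ⟨m, ⟨e'⟩⟩ := exists_linearEquiv_fun S W
  haveI : Nontrivial S := IsSimpleModule.nontrivial R S
  haveI : FiniteDimensional k S :=
    Module.Finite.of_injective (S.subtype.restrictScalars k) Subtype.val_injective
  have hpos : 0 < Module.finrank k S := Module.finrank_pos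
  have hn : Module.finrank k V = n * Module.finrank k S := by
    rw [(e.restrictScalars k).finrank_eq]; simp [Module.finrank_pi_fintype]
  have hm : Module.finrank k W = m * Module.finrank k S := by
    rw [(e'.restrictScalars k).finrank_eq]; simp [Module.finrank_pi_fintype]
  obtain rfl : n = m := Nat.eq_of_mul_eq_mul_right hpos (hn.symm.trans (h.trans hm))
  refine ⟨(e.trans e'.symm).restrictScalars k, fun r x => ?_⟩
  show (e.trans e'.symm) (r • x) = r • (e.trans e'.symm) x
  exact map_smul _ r x

/-- The commutant of a representation of a simple algebra is simple, of the expected dimension. -/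
theorem centralizer_range [Nontrivial V] (ρ : R →ₐ[k] Module.End k V) :
    IsSimpleRing (Subalgebra.centralizer k (Set.range ρ)) ∧
      Module.finrank k (Subalgebra.centralizer k (Set.range ρ)) * Module.finrank k R =
        Module.finrank k V * Module.finrank k V := by
  letI : Module R V := Module.compHom V ρ.toRingHom
  have hV : ∀ (r : R) (x : V), r • x = ρ r x := fun r x => rfl
  haveI : IsScalarTower k R V := ⟨fun c r x => by rw [hV, hV, map_smul, LinearMap.smul_apply]⟩
  haveI : SMulCommClass R k V := ⟨fun r c x => by rw [hV, hV, map_smul]⟩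
  haveI : SMulCommClass k R V := SMulCommClass.symm _ _ _
  haveI : Module.Finite R V := Module.Finite.of_restrictScalars_finite k R V
  haveI : IsArtinianRing R := IsArtinianRing.of_finite k R
  let ι : Module.End R V →ₐ[k] Subalgebra.centralizer k (Set.range ρ) :=
    AlgHom.codRestrict
      (AlgHom.ofLinearMap
        { toFun := fun f => f.restrictScalars k
          map_add' := fun f g => rfl
          map_smul' := fun c f => rfl }
        rfl (fun f g => rfl))
      _ (fun f => (Subalgebra.mem_centralizer_iff k).2 fun g hg => by
        obtain ⟨r, rfl⟩ := hg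
        ext x
        exact (f.map_smul r x).symm)
  have hι : Function.Bijective ι := by
    refine ⟨fun f g h => LinearMap.ext fun x => LinearMap.congr_fun (congrArg Subtype.val h) x, fun g => ?_⟩
    refine ⟨{ toFun := g.1, map_add' := map_add g.1, map_smul' := fun r x => ?_ },
      Subtype.ext (LinearMap.ext fun x => rfl)⟩
    exact (LinearMap.congr_fun ((Subalgebra.mem_centralizer_iff k).1 g.2 (ρ r) ⟨r, rfl⟩) x).symm
  let eC : Module.End R V ≃ₐ[k] Subalgebra.centralizer k (Set.range ρ) := AlgEquiv.ofBijective ι hι
  obtain ⟨S, hS⟩ := IsSemisimpleModule.exists_simple_submodule R R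
  haveI := hS
  obtain ⟨n, ⟨e⟩⟩ := exists_linearEquiv_fun S R
  obtain ⟨m, ⟨e'⟩⟩ := exists_linearEquiv_fun S V
  haveI : NeZero m := ⟨fun h => by subst h; exact not_subsingleton V e'.toEquiv.subsingleton⟩
  haveI : FiniteDimensional k S :=
    Module.Finite.of_injective (S.subtype.restrictScalars k) Subtype.val_injective
  haveI : FiniteDimensional k (Module.End R S) :=
    Module.Finite.of_injective (LinearMap.restrictScalarsₗ k R S S k) (LinearMap.restrictScalars_injective k)
  let fV : Module.End R V ≃ₐ[k] Matrix (Fin m) (Fin m) (Module.End R S) :=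
    (e'.conjAlgEquiv k).trans (endVecAlgEquivMatrixEnd ..)
  let fR : Rᵐᵒᵖ ≃ₐ[k] Matrix (Fin n) (Fin n) (Module.End R S) :=
    (AlgEquiv.moduleEndSelf k).trans ((e.conjAlgEquiv k).trans (endVecAlgEquivMatrixEnd ..))
  classical
  haveI : IsSimpleRing (Module.End R S) := inferInstance
  refine ⟨IsSimpleRing.of_ringEquiv ((fV.symm.trans eC).toRingEquiv) inferInstance, ?_⟩
  have h1 : Module.finrank k (Subalgebra.centralizer k (Set.range ρ)) =
      m * m * Module.finrank k (Module.End R S) := by
    rw [← eC.toLinearEquiv.finrank_eq, fV.toLinearEquiv.finrank_eq, Module.finrank_matrix]; simp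
  have h2 : Module.finrank k R = n * n * Module.finrank k (Module.End R S) := by
    rw [(MulOpposite.opLinearEquiv k : R ≃ₗ[k] Rᵐᵒᵖ).finrank_eq, fR.toLinearEquiv.finrank_eq,
      Module.finrank_matrix]; simp
  have h3 : Module.finrank k R = n * Module.finrank k S := by
    rw [(e.restrictScalars k).finrank_eq]; simp [Module.finrank_pi_fintype]
  have h4 : Module.finrank k V = m * Module.finrank k S := by
    rw [(e'.restrictScalars k).finrank_eq]; simp [Module.finrank_pi_fintype]
  have hn : n ≠ 0 := fun h => by
    haveI : Nontrivial R := inferInstance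
    subst h; exact not_subsingleton R e.toEquiv.subsingleton
  have h5 : Module.finrank k S = n * Module.finrank k (Module.End R S) := by
    refine Nat.eq_of_mul_eq_mul_left (Nat.pos_of_ne_zero hn) ?_
    rw [← h3, h2, mul_assoc]
  rw [h1, h2, h4, h5]
  ring

end Groth.Agent.CSALib
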