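import Mathlib
import Groth.Agent.CSADescent.Tensor
import Groth.Agent.CSALib.Modules

/-!
# The Skolem–Noether theorem and centralizers in central simple algebras
-/

open scoped TensorProduct

namespace Groth.Agent.CSALib

universe u v w

variable {k : Type u} [Field k] {A : Type v} [Ring A] [Algebra k A]

theorem isSimpleRing_tensor' (A : Type v) (C : Type w) [Ring A] [Algebra k A] [Ring C] [Algebra k C]
    [Algebra.IsCentral k A] [IsSimpleRing A] [IsSimpleRing C] : IsSimpleRing (C ⊗[k] A) := by
  haveI := CSADescent.isSimpleRing_tensor (k := k) (A := A) (C := C)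
  exact IsSimpleRing.of_ringEquiv (Algebra.TensorProduct.comm k A C).toRingEquiv inferInstance

/-- The action of `Aᵐᵒᵖ ⊗ B` on `A` through an algebra map `B → A`. -/
noncomputable def sandwich {B : Type w} [Ring B] [Algebra k B] (f : B →ₐ[k] A) :
    B ⊗[k] Aᵐᵒᵖ →ₐ[k] Module.End k A :=
  (AlgHom.mulLeftRight k A).comp (Algebra.TensorProduct.map f (AlgHom.id k Aᵐᵒᵖ))

theorem sandwich_apply {B : Type w} [Ring B] [Algebra k B] (f : B →ₐ[k] A) (b : B) (a x : A) :
    sandwich f (b ⊗ₜ[k] MulOpposite.op a) x = f b * x * a := by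
  simp [sandwich]

variable [Algebra.IsCentral k A] [IsSimpleRing A] [FiniteDimensional k A]

theorem finiteDimensional_of_algHom {B : Type w} [Ring B] [Algebra k B] [IsSimpleRing B] (f : B →ₐ[k] A) :
    FiniteDimensional k B :=
  Module.Finite.of_injective f.toLinearMap f.toRingHom.injective

/-- The Skolem–Noether theorem. -/
theorem exists_conj {B : Type w} [Ring B] [Algebra k B] [IsSimpleRing B] (f g : B →ₐ[k] A) :
    ∃ x : Aˣ, ∀ b : B, f b = (x : A) * g b * (x⁻¹ : Aˣ) := by
  haveI := finiteDimensional_of_algHom f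
  haveI : IsSimpleRing (B ⊗[k] Aᵐᵒᵖ) := isSimpleRing_tensor' Aᵐᵒᵖ B
  haveI : Module.Finite k Aᵐᵒᵖ := Module.Finite.equiv (MulOpposite.opLinearEquiv k : A ≃ₗ[k] Aᵐᵒᵖ)
  obtain ⟨T, hT⟩ := exists_intertwiner (sandwich g) (sandwich f) rfl
  have hT' : ∀ b a x, T (g b * x * a) = f b * T x * a := fun b a x => by
    simpa [sandwich_apply] using hT (b ⊗ₜ[k] MulOpposite.op a) x
  have h1 : ∀ a, T a = T 1 * a := fun a => by simpa using hT' 1 a 1
  obtain ⟨y, hy⟩ := T.surjective 1
  rw [h1 y] at hy
  haveI : IsArtinianRing A := IsArtinianRing.of_finite k A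
  refine ⟨⟨T 1, y, hy, mul_eq_one_comm.1 hy⟩, fun b => ?_⟩
  show f b = T 1 * g b * y
  have e := hT' b 1 1
  rw [mul_one, mul_one, mul_one, h1] at e
  rw [e, mul_assoc, hy, mul_one]

/-- Left multiplications by a centralizer identify it with the commutant of the sandwich action. -/
theorem centralizer_simple_finrank (B : Subalgebra k A) [IsSimpleRing B] :
    IsSimpleRing (Subalgebra.centralizer k (B : Set A)) ∧
      Module.finrank k B * Module.finrank k (Subalgebra.centralizer k (B : Set A)) =
        Module.finrank k A := by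
  haveI : IsSimpleRing (B ⊗[k] Aᵐᵒᵖ) := isSimpleRing_tensor' Aᵐᵒᵖ B
  haveI : Module.Finite k Aᵐᵒᵖ := Module.Finite.equiv (MulOpposite.opLinearEquiv k : A ≃ₗ[k] Aᵐᵒᵖ)
  obtain ⟨hs, hd⟩ := centralizer_range (sandwich B.val)
  let φ : Subalgebra.centralizer k (B : Set A) →ₐ[k]
      Subalgebra.centralizer k (Set.range (sandwich B.val)) :=
    AlgHom.codRestrict ((Algebra.lmul k A).comp (Subalgebra.centralizer k (B : Set A)).val) _
      (fun c => (Subalgebra.mem_centralizer_iff k).2 fun g hg => by
        obtain ⟨t, rfl⟩ := hg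
        induction t using TensorProduct.induction_on with
        | zero => simp
        | tmul b a =>
          induction a using MulOpposite.rec' with
          | h a =>
            ext x
            simp only [Module.End.mul_apply, AlgHom.comp_apply, sandwich_apply, Subalgebra.coe_val,
              Algebra.lmul, LinearMap.mul_apply', AlgHom.coe_mk, RingHom.coe_mk, MonoidHom.coe_mk,
              OneHom.coe_mk]
            show (b : A) * (c.1 * x) * a = c.1 * ((b : A) * x * a)
            rw [← mul_assoc (b : A), (Subalgebra.mem_centralizer_iff k).1 c.2 b.1 b.2]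
            simp only [mul_assoc]
        | add p q hp hq => rw [map_add, add_mul, mul_add, hp, hq])
  have hφ : Function.Bijective φ := by
    refine ⟨fun c d h => Subtype.ext ?_, fun g => ?_⟩
    · simpa [φ] using LinearMap.congr_fun (congrArg Subtype.val h) 1
    · have hc : ∀ (b : B) a x, g.1 ((b : A) * x * a) = (b : A) * g.1 x * a := fun b a x => by
        have := LinearMap.congr_fun ((Subalgebra.mem_centralizer_iff k).1 g.2 _
          ⟨b ⊗ₜ[k] MulOpposite.op a, rfl⟩) x
        simpa [sandwich_apply] using this.symm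
      refine ⟨⟨g.1 1, (Subalgebra.mem_centralizer_iff k).2 fun b hb => ?_⟩, Subtype.ext (LinearMap.ext fun x => ?_)⟩
      · have h1 := hc ⟨b, hb⟩ 1 1
        have h2 := hc 1 b 1
        simp only [OneMemClass.coe_one, one_mul, mul_one] at h1 h2
        rw [← h1, ← h2]
      · have h := hc 1 x 1
        simpa [φ] using h.symm
  let e := AlgEquiv.ofBijective φ hφ
  refine ⟨IsSimpleRing.of_ringEquiv e.symm.toRingEquiv hs, ?_⟩
  rw [← e.toLinearEquiv.finrank_eq, Module.finrank_tensorProduct,
    ← (MulOpposite.opLinearEquiv k : A ≃ₗ[k] Aᵐᵒᵖ).finrank_eq] at hd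
  refine Nat.eq_of_mul_eq_mul_right (Module.finrank_pos (R := k) (M := A)) ?_
  rw [← hd]
  ring

/-- Double centralizer theorem. -/
theorem centralizer_centralizer (B : Subalgebra k A) [IsSimpleRing B] :
    Subalgebra.centralizer k (Subalgebra.centralizer k (B : Set A) : Set A) = B := by
  obtain ⟨hs, hd⟩ := centralizer_simple_finrank B
  haveI := hs
  obtain ⟨-, hd'⟩ := centralizer_simple_finrank (Subalgebra.centralizer k (B : Set A))
  haveI : Nontrivial (Subalgebra.centralizer k (B : Set A)) := inferInstance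
  have hle : B ≤ Subalgebra.centralizer k (Subalgebra.centralizer k (B : Set A) : Set A) := fun b hb =>
    (Subalgebra.mem_centralizer_iff k).2 fun c hc =>
      ((Subalgebra.mem_centralizer_iff k).1 hc b hb).symm
  refine (Subalgebra.eq_of_le_of_finrank_eq hle ?_).symm
  refine Nat.eq_of_mul_eq_mul_right (Module.finrank_pos (R := k)
    (M := Subalgebra.centralizer k (B : Set A))) ?_
  rw [hd, mul_comm, hd']

end Groth.Agent.CSALib
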