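import Mathlib
import Groth.Prelude.Def_Curves
import Groth.Agent.CSADescent.SepClosed
import Groth.Agent.CSALib.Centralizer

/-!
# Base change and splitting of central simple algebras
-/

open scoped TensorProduct

namespace Groth.Agent.CSALib

universe u v w

variable {k : Type u} [Field k] {A : Type v} [Ring A] [Algebra k A]

theorem isCentral_baseChange [Algebra.IsCentral k A] (L : Type w) [Field L] [Algebra k L] :
    Algebra.IsCentral L (L ⊗[k] A) := by
  classical
  let b := Module.Free.chooseBasis k L
  let E := TensorProduct.equivFinsuppOfBasisLeft (N := A) b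
  have hE : ∀ (z : L ⊗[k] A) (d : A) i, E (z * ((1 : L) ⊗ₜ[k] d)) i = E z i * d ∧
      E (((1 : L) ⊗ₜ[k] d) * z) i = d * E z i := by
    intro z d i
    induction z using TensorProduct.induction_on with
    | zero => simp
    | tmul l x => simp [E, smul_mul_assoc, mul_smul_comm]
    | add p q hp hq => simp [add_mul, mul_add, hp.1, hp.2, hq.1, hq.2]
  refine ⟨fun z hz => ?_⟩
  have hc : ∀ i, ∃ r : k, algebraMap k A r = E z i := fun i => by
    have h : E z i ∈ Subalgebra.center k A := Subalgebra.mem_center_iff.2 fun d => by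
      rw [← (hE z d i).1, ← (hE z d i).2, (Subalgebra.mem_center_iff.1 hz ((1 : L) ⊗ₜ[k] d))]
    exact Algebra.mem_bot.1 (Algebra.IsCentral.out h)
  choose r hr using hc
  rw [Algebra.mem_bot]
  refine ⟨(E z).sum fun i _ => r i • b i, ?_⟩
  conv_rhs => rw [← E.symm_apply_apply z, TensorProduct.equivFinsuppOfBasisLeft_symm_apply]
  rw [Algebra.TensorProduct.algebraMap_apply, Algebra.algebraMap_self, RingHom.id_apply, Finsupp.sum,
    Finsupp.sum, TensorProduct.sum_tmul]
  refine Finset.sum_congr rfl fun i _ => ?_
  rw [← hr i, Algebra.algebraMap_eq_smul_one, TensorProduct.tmul_smul, TensorProduct.smul_tmul']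

/-- A central simple algebra is split by every separably closed extension. -/
theorem splits_of_isSepClosed [Algebra.IsCentral k A] [IsSimpleRing A] [FiniteDimensional k A]
    (L : Type w) [Field L] [Algebra k L] [IsSepClosed L] : Curves.Splits k A L := by
  haveI := isCentral_baseChange (k := k) (A := A) L
  haveI : IsSimpleRing (L ⊗[k] A) := isSimpleRing_tensor' A L
  obtain ⟨n, ⟨e⟩⟩ := CSADescent.exists_algEquiv_matrix (L := L) (L ⊗[k] A)
  refine ⟨n, ?_, ⟨e⟩⟩
  rintro rfl
  exact not_subsingleton (L ⊗[k] A) e.toEquiv.subsingleton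

theorem finrank_of_splits {L : Type w} [Field L] [Algebra k L] {n : ℕ}
    (e : L ⊗[k] A ≃ₐ[L] Matrix (Fin n) (Fin n) L) : Module.finrank k A = n * n := by
  rw [← Module.finrank_baseChange (R := L) (S := k), e.toLinearEquiv.finrank_eq, Module.finrank_matrix]
  simp

/-- An algebra split by a field extension is finite central simple. -/
theorem csa_of_splits {L : Type w} [Field L] [Algebra k L] (h : Curves.Splits k A L) :
    Algebra.IsCentral k A ∧ IsSimpleRing A ∧ FiniteDimensional k A := by
  obtain ⟨n, hn, ⟨e⟩⟩ := h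
  haveI : NeZero n := ⟨hn⟩
  haveI : Module.Finite L (L ⊗[k] A) := Module.Finite.equiv e.symm.toLinearEquiv
  haveI hfin : Module.Finite k A := Module.Finite.of_finite_tensorProduct_of_faithfullyFlat L
  haveI : IsSimpleRing (L ⊗[k] A) := IsSimpleRing.of_ringEquiv e.symm.toRingEquiv inferInstance
  haveI : Algebra.IsCentral L (L ⊗[k] A) := ⟨fun z hz => by
    have h1 : e z ∈ Subalgebra.center L (Matrix (Fin n) (Fin n) L) := Subalgebra.mem_center_iff.2 fun M => by
      obtain ⟨w, rfl⟩ := e.surjective M
      rw [← map_mul, ← map_mul, Subalgebra.mem_center_iff.1 hz w]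
    obtain ⟨l, hl⟩ := Algebra.IsCentral.mem_center_iff L |>.1 h1
    exact Algebra.mem_bot.2 ⟨l, e.injective (by rw [AlgEquiv.commutes, hl])⟩⟩
  haveI : Nontrivial A := by
    by_contra hA
    rw [not_nontrivial_iff_subsingleton] at hA
    have h0 := finrank_of_splits e
    rw [Module.finrank_zero_of_subsingleton] at h0
    exact hn (mul_self_eq_zero.1 h0.symm)
  have hinj : Function.Injective
      (Algebra.TensorProduct.includeRight : A →ₐ[k] L ⊗[k] A) :=
    Algebra.TensorProduct.includeRight_injective (algebraMap k L).injective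
  refine ⟨⟨fun a ha => ?_⟩, ?_, hfin⟩
  · have hc : (1 : L) ⊗ₜ[k] a ∈ Subalgebra.center L (L ⊗[k] A) := Subalgebra.mem_center_iff.2 fun z => by
      induction z using TensorProduct.induction_on with
      | zero => simp
      | tmul l x =>
        rw [Algebra.TensorProduct.tmul_mul_tmul, Algebra.TensorProduct.tmul_mul_tmul, one_mul, mul_one,
          Subalgebra.mem_center_iff.1 ha x]
      | add p q hp hq => rw [add_mul, mul_add, hp, hq]
    obtain ⟨l, hl⟩ := Algebra.IsCentral.mem_center_iff L |>.1 hc
    rw [Algebra.TensorProduct.algebraMap_apply, Algebra.algebraMap_self, RingHom.id_apply] at hl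
    classical
    obtain ⟨φ, hφ⟩ := Module.Projective.exists_dual_ne_zero k (one_ne_zero' L)
    have h := congrArg (fun t => TensorProduct.lid k A (TensorProduct.map φ LinearMap.id t)) hl
    simp only [TensorProduct.map_tmul, TensorProduct.lid_tmul, LinearMap.id_coe, id_eq] at h
    refine Algebra.mem_bot.2 ⟨(φ 1)⁻¹ * φ l, ?_⟩
    rw [Algebra.algebraMap_eq_smul_one, mul_smul, ← h, smul_smul, inv_mul_cancel₀ hφ, one_smul]
  · refine IsSimpleRing.of_eq_bot_or_eq_top fun I => or_iff_not_imp_right.2 fun hI => ?_
    haveI : Nontrivial (A ⧸ I.asIdeal) := by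
      refine Ideal.Quotient.nontrivial_iff.2 fun h => hI ?_
      rw [← I.one_mem_iff, ← TwoSidedIdeal.mem_asIdeal, h]
      trivial
    have hq : Function.Injective
        (Algebra.TensorProduct.map (AlgHom.id k L) (Ideal.Quotient.mkₐ k I.asIdeal)) :=
      RingHom.injective (Algebra.TensorProduct.map (AlgHom.id k L) (Ideal.Quotient.mkₐ k I.asIdeal)).toRingHom
    refine SetLike.ext fun a => ?_
    rw [TwoSidedIdeal.mem_bot]
    refine ⟨fun ha => hinj (hq ?_), fun ha => ha ▸ I.zero_mem⟩
    simp only [Algebra.TensorProduct.includeRight_apply, Algebra.TensorProduct.map_tmul, map_one,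
      Ideal.Quotient.mkₐ_eq_mk, map_zero]
    rw [Ideal.Quotient.eq_zero_iff_mem.2 ((TwoSidedIdeal.mem_asIdeal).2 ha), TensorProduct.tmul_zero]

/-- A splitting descends to any intermediate field containing its coefficients. -/
theorem exists_finite_descent [FiniteDimensional k A] {L : Type w} [Field L] [Algebra k L]
    [Algebra.IsAlgebraic k L] (h : Curves.Splits k A L) :
    ∃ F : IntermediateField k L, FiniteDimensional k F ∧
      ∀ E : IntermediateField k L, F ≤ E → Curves.Splits k A E := by
  classical
  obtain ⟨hcen, hsim, -⟩ := csa_of_splits h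
  obtain ⟨n, hn, ⟨e⟩⟩ := h
  haveI := hcen
  haveI := hsim
  haveI : NeZero n := ⟨hn⟩
  let b := Module.finBasis k A
  let B := Algebra.TensorProduct.basis L b
  let S : Set L := Set.range fun p : (Fin n × Fin n) × Fin (Module.finrank k A) =>
    B.repr (e.symm (Matrix.single p.1.1 p.1.2 1)) p.2
  have hS : S.Finite := Set.finite_range _
  haveI := hS.to_subtype
  refine ⟨IntermediateField.adjoin k S, IntermediateField.finiteDimensional_adjoin fun x _ =>
    (Algebra.IsAlgebraic.isAlgebraic x).isIntegral, fun E hE => ?_⟩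
  let ι : E ⊗[k] A →ₐ[k] L ⊗[k] A := Algebra.TensorProduct.map E.val (AlgHom.id k A)
  let g : E ⊗[k] A →ₐ[k] Matrix (Fin n) (Fin n) L := (e.toAlgHom.restrictScalars k).comp ι
  have hg : ∀ (c : E) t, g (c • t) = (c : L) • g t := fun c t => by
    induction t using TensorProduct.induction_on with
    | zero => simp
    | tmul l a =>
      show e (ι (c • l ⊗ₜ[k] a)) = (c : L) • e (ι (l ⊗ₜ[k] a))
      rw [← map_smul e]
      congr 1
    | add p q hp hq => rw [smul_add, map_add, hp, hq, map_add, smul_add]
  let m : Matrix (Fin n) (Fin n) E →ₐ[k] Matrix (Fin n) (Fin n) L := AlgHom.mapMatrix E.val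
  have hm : Function.Injective m := fun M N h => Matrix.ext fun i j =>
    Subtype.ext (congr_fun (congr_fun h i) j)
  have hmem : ∀ i j, ∃ t, g t = Matrix.single i j 1 := fun i j => by
    refine ⟨∑ p, (⟨B.repr (e.symm (Matrix.single i j 1)) p, hE (IntermediateField.subset_adjoin k S
      ⟨((i, j), p), rfl⟩)⟩ : E) ⊗ₜ[k] b p, ?_⟩
    apply e.symm.injective
    show e.symm (e (ι _)) = _
    rw [AlgEquiv.symm_apply_apply, map_sum]
    conv_rhs => rw [← B.sum_repr (e.symm (Matrix.single i j 1))]
    refine Finset.sum_congr rfl fun p _ => ?_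
    simp [ι, B, Algebra.TensorProduct.basis_apply, TensorProduct.smul_tmul']
  haveI : IsSimpleRing (E ⊗[k] A) := isSimpleRing_tensor' A E
  have hrange : ∀ M, ∃ t, g t = m M := fun M => by
    choose t ht using hmem
    refine ⟨∑ i, ∑ j, M i j • t i j, ?_⟩
    simp only [map_sum, hg, ht]
    conv_rhs => rw [Matrix.matrix_eq_sum_single M]
    simp only [m, map_sum, Matrix.smul_single]
    refine Finset.sum_congr rfl fun i _ => Finset.sum_congr rfl fun j _ => ?_
    ext a c
    by_cases h : i = a ∧ j = c <;> simp [Matrix.single_apply, h]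
  have hginj : Function.Injective g := g.toRingHom.injective
  choose s hs using hrange
  let ψ : Matrix (Fin n) (Fin n) E →ₐ[E] E ⊗[k] A :=
    AlgHom.ofLinearMap
      { toFun := s
        map_add' := fun M N => hginj (by rw [hs, map_add, map_add, hs, hs])
        map_smul' := fun c M => hginj (by
          rw [hs, RingHom.id_apply, hg, hs]
          ext i j
          simp [m]) }
      (hginj (by show g (s 1) = g 1; exact ((hs 1).trans (map_one m)).trans g.toRingHom.map_one.symm))
      (fun M N => hginj (by show g (s (M * N)) = g (s M * s N); rw [hs, map_mul, map_mul, hs, hs]))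
  have hψ : Function.Injective ψ := ψ.toRingHom.injective
  have hdim : Module.finrank E (Matrix (Fin n) (Fin n) E) = Module.finrank E (E ⊗[k] A) := by
    rw [Module.finrank_baseChange, finrank_of_splits e, Module.finrank_matrix]; simp
  exact ⟨n, hn, ⟨(AlgEquiv.ofBijective ψ
    ⟨hψ, (LinearMap.injective_iff_surjective_of_finrank_eq_finrank (f := ψ.toLinearMap) hdim).1 hψ⟩).symm⟩⟩

/-- Separable and Galois splitting fields exist. -/
theorem exists_galois_splitting [Algebra.IsCentral k A] [IsSimpleRing A] [FiniteDimensional k A] :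
    ∃ E : IntermediateField k (SeparableClosure k), FiniteDimensional k E ∧ IsGalois k E ∧
      Curves.Splits k A E := by
  obtain ⟨F, hF, h⟩ := exists_finite_descent (splits_of_isSepClosed (k := k) (A := A) (SeparableClosure k))
  haveI := hF
  refine ⟨IntermediateField.normalClosure k F (SeparableClosure k), inferInstance, ?_,
    h _ (IntermediateField.le_normalClosure F)⟩
  constructor

end Groth.Agent.CSALib
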