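import Mathlib
import Groth.Agent.CSALib.Centralizer

/-!
# Maximal commutative subalgebras of central skew fields
-/

namespace Groth.Agent.CSALib

universe u v

variable {k : Type u} [Field k] {D : Type v} [DivisionRing D] [Algebra k D] [FiniteDimensional k D]

theorem isSimpleRing_subalgebra (L : Subalgebra k D) : IsSimpleRing L :=
  letI := divisionRingOfFiniteDimensional k L
  inferInstance

variable [Algebra.IsCentral k D]

theorem finrank_eq_sq_of_maximal (L : Subalgebra k D) (hcomm : ∀ x ∈ L, ∀ y ∈ L, x * y = y * x)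
    (hmax : ∀ L' : Subalgebra k D, (∀ x ∈ L', ∀ y ∈ L', x * y = y * x) → L ≤ L' → L' = L) :
    Module.finrank k D = Module.finrank k L ^ 2 := by
  haveI := isSimpleRing_subalgebra L
  obtain ⟨-, hd⟩ := centralizer_simple_finrank L
  suffices h : Subalgebra.centralizer k (L : Set D) = L by rw [← hd, h, sq]
  refine le_antisymm (fun x hx => ?_) fun x hx => (Subalgebra.mem_centralizer_iff k).2 fun y hy => hcomm y hy x hx
  rw [Subalgebra.mem_centralizer_iff] at hx
  have h := hmax (Algebra.adjoin k (insert x (L : Set D))) (fun a ha b hb => ?_)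
    (fun y hy => Algebra.subset_adjoin (Or.inr hy))
  · rw [← h]; exact Algebra.subset_adjoin (Or.inl rfl)
  · have hs : ∀ p ∈ insert x (L : Set D), ∀ q ∈ insert x (L : Set D), p * q = q * p := by
      rintro p (rfl | hp) q (rfl | hq)
      · rfl
      · exact (hx q hq).symm
      · exact hx p hp
      · exact hcomm p hp q hq
    letI := Algebra.adjoinCommRingOfComm k hs
    exact congrArg Subtype.val (mul_comm (⟨a, ha⟩ : Algebra.adjoin k (insert x (L : Set D))) ⟨b, hb⟩)

theorem exists_separable_maximal :
    ∃ L : Subalgebra k D, (∀ x ∈ L, ∀ y ∈ L, x * y = y * x) ∧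
      (∀ L' : Subalgebra k D, (∀ x ∈ L', ∀ y ∈ L', x * y = y * x) → L ≤ L' → L' = L) ∧
      Algebra.IsSeparable k L := by
  classical
  let P : ℕ → Prop := fun n => ∃ L : Subalgebra k D, (∀ x ∈ L, ∀ y ∈ L, x * y = y * x) ∧
    Algebra.IsSeparable k L ∧ Module.finrank k L = n
  have hP1 : P (Module.finrank k (⊥ : Subalgebra k D)) :=
    ⟨⊥, fun x hx y _ => by obtain ⟨r, rfl⟩ := Algebra.mem_bot.1 hx; exact Algebra.commutes r y,
      AlgEquiv.Algebra.isSeparable (Algebra.botEquiv k D).symm, rfl⟩
  obtain ⟨L, hcomm, hsep, hdim⟩ :=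
    Nat.findGreatest_spec (P := P) (n := Module.finrank k D) (m := Module.finrank k (⊥ : Subalgebra k D))
      (Submodule.finrank_le (⊥ : Subalgebra k D).toSubmodule) hP1
  refine ⟨L, hcomm, ?_, hsep⟩
  haveI := hsep
  haveI := isSimpleRing_subalgebra L
  suffices h : Subalgebra.centralizer k (L : Set D) = L from fun L' h' hle =>
    le_antisymm (fun x hx => h ▸ (Subalgebra.mem_centralizer_iff k).2 fun y hy => h' y (hle hy) x hx) hle
  have hcc := centralizer_centralizer L
  have hLC : L ≤ Subalgebra.centralizer k (L : Set D) := fun x hx =>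
    (Subalgebra.mem_centralizer_iff k).2 fun y hy => hcomm y hy x hx
  refine le_antisymm ?_ hLC
  by_contra hne
  letI : CommRing L := { (inferInstance : Ring L) with mul_comm := fun a b => Subtype.ext (hcomm a.1 a.2 b.1 b.2) }
  letI : Field L := fieldOfFiniteDimensional k L
  letI : DivisionRing (Subalgebra.centralizer k (L : Set D)) :=
    divisionRingOfFiniteDimensional k (Subalgebra.centralizer k (L : Set D))
  letI : Algebra L (Subalgebra.centralizer k (L : Set D)) :=
    (Subalgebra.inclusion hLC).toRingHom.toAlgebra' fun c x =>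
      Subtype.ext ((Subalgebra.mem_centralizer_iff k).1 x.2 c.1 c.2)
  haveI : IsScalarTower k L (Subalgebra.centralizer k (L : Set D)) :=
    IsScalarTower.of_algebraMap_eq fun r => rfl
  haveI : Algebra.IsCentral L (Subalgebra.centralizer k (L : Set D)) := ⟨fun z hz => by
    have : z.1 ∈ Subalgebra.centralizer k (Subalgebra.centralizer k (L : Set D) : Set D) :=
      (Subalgebra.mem_centralizer_iff k).2 fun y hy =>
        congrArg Subtype.val (Subalgebra.mem_center_iff.1 hz ⟨y, hy⟩)
    rw [hcc] at this
    exact Algebra.mem_bot.2 ⟨⟨z.1, this⟩, rfl⟩⟩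
  haveI : Module.Finite L (Subalgebra.centralizer k (L : Set D)) :=
    Module.Finite.of_restrictScalars_finite k L _
  haveI : Algebra.IsAlgebraic L (Subalgebra.centralizer k (L : Set D)) := Algebra.IsAlgebraic.of_finite L _
  have hbot : (⊥ : Subalgebra L (Subalgebra.centralizer k (L : Set D))) ≠ ⊤ := fun h => hne fun x hx => by
    have : (⟨x, hx⟩ : Subalgebra.centralizer k (L : Set D)) ∈
        (⊥ : Subalgebra L (Subalgebra.centralizer k (L : Set D))) := h ▸ trivial
    obtain ⟨l, hl⟩ := Algebra.mem_bot.1 this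
    have e : (l : D) = x := congrArg Subtype.val hl
    exact e ▸ l.2
  obtain ⟨x, hx, hxs⟩ := JacobsonNoether.exists_separable_and_not_isCentral' hbot
  have hint : IsIntegral L x := hxs.isIntegral
  haveI : Fact (Irreducible (minpoly L x)) := ⟨minpoly.irreducible hint⟩
  haveI : Algebra.IsSeparable L (AdjoinRoot (minpoly L x)) := by
    have := IntermediateField.isSeparable_adjoin_simple_iff_isSeparable (F := L)
      (x := AdjoinRoot.root (minpoly L x))
    have h2 : IsSeparable L (AdjoinRoot.root (minpoly L x)) := by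
      rw [IsSeparable, ← minpoly.eq_of_irreducible_of_monic (minpoly.irreducible hint)
        (by rw [AdjoinRoot.aeval_eq, AdjoinRoot.mk_self]) (minpoly.monic hint)]
      exact hxs
    haveI := this.2 h2
    exact AlgEquiv.Algebra.isSeparable
      ((IntermediateField.equivOfEq (IntermediateField.adjoin_root_eq_top (minpoly L x))).trans
        IntermediateField.topEquiv)
  haveI : Algebra.IsSeparable k (AdjoinRoot (minpoly L x)) := Algebra.IsSeparable.trans k L _
  let f₀ : AdjoinRoot (minpoly L x) →ₐ[L] Subalgebra.centralizer k (L : Set D) :=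
    Ideal.Quotient.liftₐ (Ideal.span {minpoly L x}) (Polynomial.aeval x) fun p hp => by
      obtain ⟨q, rfl⟩ := Ideal.mem_span_singleton'.1 hp
      rw [map_mul, minpoly.aeval, mul_zero]
  let f : AdjoinRoot (minpoly L x) →ₐ[k] D :=
    (Subalgebra.centralizer k (L : Set D)).val.comp (f₀.restrictScalars k)
  have hLle : L ≤ f.range := fun l hl =>
    ⟨AdjoinRoot.of _ ⟨l, hl⟩, congrArg Subtype.val (f₀.commutes ⟨l, hl⟩)⟩
  have hxmem : x.1 ∈ f.range := ⟨AdjoinRoot.root _, congrArg Subtype.val (Polynomial.aeval_X x)⟩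
  have hlt : L < f.range := lt_of_le_of_ne hLle fun h => hx (Algebra.mem_bot.2 ⟨⟨x.1, h.symm.le hxmem⟩, rfl⟩)
  have hfinr : Module.finrank k L < Module.finrank k f.range :=
    Submodule.finrank_lt_finrank_of_lt (show L.toSubmodule < f.range.toSubmodule from hlt)
  have hle := Nat.le_findGreatest (P := P) (Submodule.finrank_le f.range.toSubmodule)
    ⟨f.range, by rintro _ ⟨a, rfl⟩ _ ⟨b, rfl⟩; rw [← map_mul, ← map_mul, mul_comm],
      AlgEquiv.Algebra.isSeparable (AlgEquiv.ofInjective f f.toRingHom.injective), rfl⟩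
  exact absurd hle (not_le.2 (hdim ▸ hfinr))

end Groth.Agent.CSALib
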