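import Mathlib
import Groth.Agent.CSALib.Centralizer

/-!
# Uniqueness of the skew field of a simple algebra
-/

namespace Groth.Agent.CSALib

universe u v w

variable {k : Type u} [Field k] {D : Type v} [DivisionRing D] [Algebra k D]
  {D' : Type w} [DivisionRing D'] [Algebra k D']

theorem le_of_algHom {n m : ℕ} (e : Matrix (Fin n) (Fin n) D →ₐ[k] Matrix (Fin m) (Fin m) D')
    (he : Function.Injective e) : n ≤ m := by
  classical
  let P : Fin n → Matrix (Fin m) (Fin m) D' := fun i => e (Matrix.single i i 1)
  have hP : ∀ i j, P i * P j = if i = j then P i else 0 := fun i j => by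
    by_cases h : i = j
    · subst h; simp [P, ← map_mul]
    · simp [P, ← map_mul, Matrix.single_mul_single_of_ne, h]
  have hP0 : ∀ i, P i ≠ 0 := fun i h => by
    have h1 := congr_fun (congr_fun (he (h.trans (map_zero e).symm)) i) i
    simp at h1
  let f : Fin n → ((Fin m → D') →ₗ[D'] (Fin m → D')) := fun i => Matrix.toLinearMapRight' (P i)
  have hv : ∀ i, ∃ x, f i x ≠ 0 := fun i => by
    by_contra h
    push Not at h
    exact hP0 i (Matrix.toLinearMapRight'.injective (by
      rw [map_zero]; exact LinearMap.ext h))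
  choose x hx using hv
  have hf : ∀ i j y, f j (f i y) = if i = j then f i y else 0 := fun i j y => by
    have h := (Matrix.toLinearMapRight'_mul_apply (P i) (P j) y).symm
    rw [hP] at h
    show Matrix.toLinearMapRight' (P j) (Matrix.toLinearMapRight' (P i) y) = _
    rw [h]
    split_ifs <;> simp [f]
  have hli : LinearIndependent D' (fun i => f i (x i)) := Fintype.linearIndependent_iff.2 fun c hc j => by
    have h := congrArg (f j) hc
    simp only [map_sum, map_smul, hf, smul_ite, smul_zero, Finset.sum_ite_eq', Finset.mem_univ, if_true,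
      map_zero] at h
    exact (smul_eq_zero.1 h).resolve_right (hx j)
  simpa using hli.fintype_card_le_finrank

variable [Algebra.IsCentral k D'] [FiniteDimensional k D']

/-- The skew field is determined by a matrix algebra over it. -/
theorem nonempty_algEquiv_of_matrix {n m : ℕ} (hn : n ≠ 0)
    (e : Matrix (Fin n) (Fin n) D ≃ₐ[k] Matrix (Fin m) (Fin m) D') : Nonempty (D ≃ₐ[k] D') := by
  classical
  obtain rfl : n = m := le_antisymm (le_of_algHom e.toAlgHom e.injective) (le_of_algHom e.symm.toAlgHom e.symm.injective)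
  haveI : NeZero n := ⟨hn⟩
  haveI : Algebra.IsCentral k (Matrix (Fin n) (Fin n) D') := inferInstance
  haveI : IsSimpleRing (Matrix (Fin n) (Fin n) k) := inferInstance
  let f₁ : Matrix (Fin n) (Fin n) k →ₐ[k] Matrix (Fin n) (Fin n) D' := AlgHom.mapMatrix (Algebra.ofId k D')
  let f₂ : Matrix (Fin n) (Fin n) k →ₐ[k] Matrix (Fin n) (Fin n) D' :=
    e.toAlgHom.comp (AlgHom.mapMatrix (Algebra.ofId k D))
  obtain ⟨u, hu⟩ := exists_conj f₁ f₂
  let c : Matrix (Fin n) (Fin n) D' ≃ₐ[k] Matrix (Fin n) (Fin n) D' :=
    AlgEquiv.ofAlgHom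
      (AlgHom.ofLinearMap (LinearMap.mulLeftRight k (u.val, u⁻¹.val))
        (by simp [LinearMap.mulLeftRight_apply]) (fun a b => by
          simp only [LinearMap.mulLeftRight_apply, mul_assoc, Units.inv_mul_cancel_left]))
      (AlgHom.ofLinearMap (LinearMap.mulLeftRight k (u⁻¹.val, u.val))
        (by simp [LinearMap.mulLeftRight_apply]) (fun a b => by
          simp only [LinearMap.mulLeftRight_apply, mul_assoc, Units.mul_inv_cancel_left]))
      (AlgHom.ext fun a => by
        simp only [AlgHom.comp_apply, AlgHom.ofLinearMap_apply, LinearMap.mulLeftRight_apply,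
          AlgHom.id_apply, mul_assoc, Units.mul_inv_cancel_left, Units.mul_inv, mul_one])
      (AlgHom.ext fun a => by
        simp only [AlgHom.comp_apply, AlgHom.ofLinearMap_apply, LinearMap.mulLeftRight_apply,
          AlgHom.id_apply, mul_assoc, Units.inv_mul_cancel_left, Units.inv_mul, mul_one])
  let e' := e.trans c
  have he' : ∀ i j, e' (Matrix.single i j 1) = Matrix.single i j 1 := fun i j => by
    have h := hu (Matrix.single i j 1)
    simpa [f₁, f₂, e', c, Matrix.map_single, mul_assoc] using h.symm
  have hcomm : ∀ d : D, ∃ d' : D', e' (Matrix.scalar (Fin n) d) = Matrix.scalar (Fin n) d' := fun d => by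
    have hM := Matrix.mem_range_scalar_of_commute_single (M := e' (Matrix.scalar (Fin n) d)) fun i j _ => by
      show _ * _ = _ * _
      rw [← he' i j, ← map_mul, ← map_mul]
      refine congrArg e' ?_
      ext a b
      by_cases h : i = a ∧ j = b <;>
        simp [Matrix.scalar_apply, Matrix.mul_diagonal, Matrix.diagonal_mul, Matrix.single_apply, h]
    obtain ⟨d', hd'⟩ := hM
    exact ⟨d', hd'.symm⟩
  have hcomm' : ∀ d' : D', ∃ d : D, e'.symm (Matrix.scalar (Fin n) d') = Matrix.scalar (Fin n) d := fun d' => by
    have hM := Matrix.mem_range_scalar_of_commute_single (M := e'.symm (Matrix.scalar (Fin n) d')) fun i j _ => by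
      show _ * _ = _ * _
      apply e'.injective
      rw [map_mul, map_mul, he', AlgEquiv.apply_symm_apply]
      ext a b
      by_cases h : i = a ∧ j = b <;>
        simp [Matrix.scalar_apply, Matrix.mul_diagonal, Matrix.diagonal_mul, Matrix.single_apply, h]
    obtain ⟨d, hd⟩ := hM
    exact ⟨d, hd.symm⟩
  choose φ hφ using hcomm
  have hinj : ∀ {a b : D'}, Matrix.scalar (Fin n) a = Matrix.scalar (Fin n) b → a = b :=
    fun h => Matrix.scalar_inj.1 h
  refine ⟨AlgEquiv.ofBijective
    { toFun := φ
      map_one' := hinj (by rw [← hφ, map_one, map_one, map_one])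
      map_mul' := fun a b => hinj (by rw [map_mul, ← hφ, ← hφ, ← hφ, map_mul, map_mul])
      map_zero' := hinj (by rw [← hφ, map_zero, map_zero, map_zero])
      map_add' := fun a b => hinj (by rw [map_add, ← hφ, ← hφ, ← hφ, map_add, map_add])
      commutes' := fun r => hinj (by
        rw [← hφ]
        exact e'.commutes r) }
    ⟨fun a b h => ?_, fun d' => ?_⟩⟩
  · have h' : φ a = φ b := h
    refine Matrix.scalar_inj.1 (e'.injective ?_)
    rw [hφ, hφ, h']
  · obtain ⟨d, hd⟩ := hcomm' d'
    refine ⟨d, hinj ?_⟩
    show Matrix.scalar (Fin n) (φ d) = _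
    rw [← hφ, ← hd, AlgEquiv.apply_symm_apply]

end Groth.Agent.CSALib
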