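import Mathlib
import Groth.Prelude.Def_Curves
import Groth.Agent.CSALib.Centralizer
import Groth.Agent.CSALib.Splitting
import Groth.Agent.CSALib.Similar

/-!
# Splitting fields and subfields of similar algebras
-/

open scoped TensorProduct

namespace Groth.Agent.CSALib

universe u v w x

variable {k : Type u} [Field k] (K : Type w) [Field K] [Algebra k K]

/-- Base change commutes with matrix algebras. -/
noncomputable def matrixBaseChange (A : Type v) [Ring A] [Algebra k A] (a : ℕ) :
    K ⊗[k] Matrix (Fin a) (Fin a) A ≃ₐ[K] Matrix (Fin a) (Fin a) (K ⊗[k] A) :=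
  (Algebra.TensorProduct.congr (AlgEquiv.ofBijective (Algebra.ofId K (Matrix (Fin 1) (Fin 1) K))
    ⟨(algebraMap K (Matrix (Fin 1) (Fin 1) K)).injective, fun M => ⟨M 0 0, by
      ext i j
      simp [Matrix.algebraMap_matrix_apply, Subsingleton.elim i 0, Subsingleton.elim j 0]⟩⟩) AlgEquiv.refl).trans
    ((Matrix.kroneckerTMulAlgEquiv (Fin 1) (Fin a) k K K A).trans
      (Matrix.reindexAlgEquiv K (K ⊗[k] A) (Equiv.uniqueProd (Fin a) (Fin 1))))

/-- Splitting fields of similar algebras agree. -/
theorem splits_of_similar {A : Type v} [Ring A] [Algebra k A] [Algebra.IsCentral k A] [IsSimpleRing A]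
    [FiniteDimensional k A] {B : Type x} [Ring B] [Algebra k B] {a b : ℕ} (ha : a ≠ 0) (hb : b ≠ 0)
    (e : Matrix (Fin a) (Fin a) A ≃ₐ[k] Matrix (Fin b) (Fin b) B) (h : Curves.Splits k B K) :
    Curves.Splits k A K := by
  classical
  obtain ⟨n, hn, ⟨s⟩⟩ := h
  haveI := isCentral_baseChange (k := k) (A := A) K
  haveI : IsSimpleRing (K ⊗[k] A) := isSimpleRing_tensor' A K
  haveI : IsArtinianRing (K ⊗[k] A) := IsArtinianRing.of_finite K _
  obtain ⟨l, hl, D, _, _, _, ⟨w⟩⟩ := IsSimpleRing.exists_algEquiv_matrix_divisionRing_finite K (K ⊗[k] A)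
  let eA : Matrix (Fin a) (Fin a) (K ⊗[k] A) ≃ₐ[K] Matrix (Fin (a * l)) (Fin (a * l)) D :=
    w.mapMatrix.trans ((Matrix.compAlgEquiv (Fin a) (Fin l) D K).trans
      (Matrix.reindexAlgEquiv K D finProdFinEquiv))
  let eB : Matrix (Fin b) (Fin b) (K ⊗[k] B) ≃ₐ[K] Matrix (Fin (b * n)) (Fin (b * n)) K :=
    s.mapMatrix.trans ((Matrix.compAlgEquiv (Fin b) (Fin n) K K).trans
      (Matrix.reindexAlgEquiv K K finProdFinEquiv))
  let f : Matrix (Fin (a * l)) (Fin (a * l)) D ≃ₐ[K] Matrix (Fin (b * n)) (Fin (b * n)) K :=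
    eA.symm.trans ((matrixBaseChange K A a).symm.trans
      ((Algebra.TensorProduct.congr AlgEquiv.refl e).trans ((matrixBaseChange K B b).trans eB)))
  obtain ⟨g⟩ := nonempty_algEquiv_of_matrix (mul_ne_zero ha (NeZero.ne l)) f
  exact ⟨l, NeZero.ne l, ⟨w.trans g.mapMatrix⟩⟩

variable [FiniteDimensional k K]

/-- A field of degree `d` in a central simple algebra of dimension `d²` splits it. -/
theorem splits_of_algHom {B : Type x} [Ring B] [Algebra k B] [Algebra.IsCentral k B] [IsSimpleRing B]
    [FiniteDimensional k B] (φ : K →ₐ[k] B) (h : Module.finrank k B = Module.finrank k K ^ 2) :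
    Curves.Splits k B K := by
  classical
  letI : Module K B := Module.compHom B (φ.toRingHom.toOpposite fun a b => by
    rw [commute_iff_eq, ← map_mul, ← map_mul, mul_comm] : K →+* Bᵐᵒᵖ)
  have hK : ∀ (c : K) (x : B), c • x = x * φ c := fun c x => rfl
  haveI : IsScalarTower k K B := ⟨fun r c x => by rw [hK, hK, map_smul, mul_smul_comm]⟩
  haveI : SMulCommClass K k B := ⟨fun c r x => by rw [hK, hK, smul_mul_assoc]⟩
  haveI : Module.Finite K B := Module.Finite.of_restrictScalars_finite k K B
  let L : B →ₐ[k] Module.End K B :=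
    AlgHom.ofLinearMap
      { toFun := fun b =>
          { toFun := fun x => b * x
            map_add' := mul_add b
            map_smul' := fun c x => by simp [hK, mul_assoc] }
        map_add' := fun b b' => LinearMap.ext fun x => add_mul b b' x
        map_smul' := fun r b => LinearMap.ext fun x => smul_mul_assoc r b x }
      (LinearMap.ext fun x => one_mul x) (fun b b' => LinearMap.ext fun x => mul_assoc b b' x)
  let T : K ⊗[k] B →ₐ[K] Module.End K B :=
    Algebra.TensorProduct.lift (Algebra.ofId K _) L fun c b => Algebra.commutes c (L b)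
  haveI : IsSimpleRing (K ⊗[k] B) := isSimpleRing_tensor' B K
  haveI : Nontrivial (Module.End K B) := inferInstance
  have hd : 0 < Module.finrank k K := Module.finrank_pos
  have hKB : Module.finrank K B = Module.finrank k K := by
    refine Nat.eq_of_mul_eq_mul_left hd ?_
    rw [Module.finrank_mul_finrank k K B, h, sq]
  have hdim : Module.finrank K (K ⊗[k] B) = Module.finrank K (Module.End K B) := by
    rw [Module.finrank_baseChange, h, Module.finrank_linearMap, hKB, sq]
  have hinj : Function.Injective T := T.toRingHom.injective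
  let e₁ := AlgEquiv.ofBijective T
    ⟨hinj, (LinearMap.injective_iff_surjective_of_finrank_eq_finrank (f := T.toLinearMap) hdim).1 hinj⟩
  refine ⟨Module.finrank K B, by omega, ⟨e₁.trans (algEquivMatrix (Module.finBasis K B))⟩⟩

/-- A split algebra is similar to one of dimension `[K:k]²` containing `K`. -/
theorem exists_embedding_of_splits {A : Type u} [Ring A] [Algebra k A] [Algebra.IsCentral k A]
    [IsSimpleRing A] [FiniteDimensional k A] (h : Curves.Splits k A K) :
    ∃ (B : Type u) (_ : Ring B) (_ : Algebra k B) (_ : K →ₐ[k] B),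
      Algebra.IsCentral k B ∧ IsSimpleRing B ∧ FiniteDimensional k B ∧
      (∃ a b : ℕ, a ≠ 0 ∧ b ≠ 0 ∧ Nonempty (Matrix (Fin a) (Fin a) A ≃ₐ[k] Matrix (Fin b) (Fin b) B)) ∧
      Module.finrank k B = Module.finrank k K ^ 2 := by
  classical
  obtain ⟨n, hn, ⟨e⟩⟩ := h
  haveI : NeZero n := ⟨hn⟩
  let bV := Module.finBasis k (Fin n → K)
  let N := Module.finrank k (Fin n → K)
  have hN : N = n * Module.finrank k K := by simp [N, Module.finrank_pi_fintype]
  have hN0 : N ≠ 0 := by rw [hN]; exact mul_ne_zero hn Module.finrank_pos.ne'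
  haveI : NeZero N := ⟨hN0⟩
  let ρ : K ⊗[k] A →ₐ[k] Matrix (Fin N) (Fin N) k :=
    (algEquivMatrix bV).toAlgHom.comp ((AlgHom.ofLinearMap
      { toFun := fun f => f.restrictScalars k
        map_add' := fun f g => rfl
        map_smul' := fun c f => rfl }
      rfl (fun f g => rfl) : Module.End K (Fin n → K) →ₐ[k] Module.End k (Fin n → K)).comp
        ((e.trans (algEquivMatrix (Pi.basisFun K (Fin n))).symm).toAlgHom.restrictScalars k))
  let η : A →ₐ[k] Matrix (Fin N) (Fin N) k := ρ.comp Algebra.TensorProduct.includeRight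
  have hη : Function.Injective η := η.toRingHom.injective
  let AA := η.range
  let eA : A ≃ₐ[k] AA := AlgEquiv.ofInjective η hη
  haveI : IsSimpleRing AA := IsSimpleRing.of_ringEquiv eA.toRingEquiv inferInstance
  haveI : Algebra.IsCentral k AA := Algebra.IsCentral.of_algEquiv k _ _ eA
  obtain ⟨hs, hd⟩ := centralizer_simple_finrank AA
  haveI := hs
  have hcc := centralizer_centralizer AA
  haveI hcen : Algebra.IsCentral k (Subalgebra.centralizer k (AA : Set (Matrix (Fin N) (Fin N) k))) :=
    ⟨fun z hz => by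
      have h1 : z.1 ∈ AA := hcc.le ((Subalgebra.mem_centralizer_iff k).2 fun y hy =>
        congrArg Subtype.val (Subalgebra.mem_center_iff.1 hz ⟨y, hy⟩))
      have h2 : (⟨z.1, h1⟩ : AA) ∈ Subalgebra.center k AA := Subalgebra.mem_center_iff.2 fun y =>
        Subtype.ext ((Subalgebra.mem_centralizer_iff k).1 z.2 y.1 y.2)
      obtain ⟨r, hr⟩ := Algebra.IsCentral.mem_center_iff k |>.1 h2
      exact Algebra.mem_bot.2 ⟨r, Subtype.ext (congrArg Subtype.val hr).symm⟩⟩
  let C := Subalgebra.centralizer k (AA : Set (Matrix (Fin N) (Fin N) k))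
  let φ₀ : K →ₐ[k] C := (ρ.comp Algebra.TensorProduct.includeLeft).codRestrict C fun c =>
    (Subalgebra.mem_centralizer_iff k).2 fun y hy => by
      obtain ⟨a, rfl⟩ := hy
      show ρ _ * ρ _ = ρ _ * ρ _
      rw [← map_mul, ← map_mul]
      simp
  let φ : K →ₐ[k] Cᵐᵒᵖ := φ₀.toOpposite fun a b => by rw [commute_iff_eq, ← map_mul, ← map_mul, mul_comm]
  haveI : FiniteDimensional k Cᵐᵒᵖ := Module.Finite.equiv (MulOpposite.opLinearEquiv k : C ≃ₗ[k] Cᵐᵒᵖ)
  have hCdim : Module.finrank k C = Module.finrank k K ^ 2 := by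
    rw [← eA.toLinearEquiv.finrank_eq, finrank_of_splits e, Module.finrank_matrix] at hd
    simp only [Fintype.card_fin, Module.finrank_self, mul_one, hN] at hd
    refine Nat.eq_of_mul_eq_mul_left (Nat.mul_pos (Nat.pos_of_ne_zero hn) (Nat.pos_of_ne_zero hn)) ?_
    rw [hd]; ring
  refine ⟨Cᵐᵒᵖ, inferInstance, inferInstance, φ, inferInstance, inferInstance, inferInstance,
    ⟨Module.finrank k C, N, Module.finrank_pos.ne', hN0, ?_⟩, ?_⟩
  · haveI : IsSimpleRing (AA ⊗[k] C) := CSADescent.isSimpleRing_tensor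
    let μ : AA ⊗[k] C →ₐ[k] Matrix (Fin N) (Fin N) k :=
      Algebra.TensorProduct.lift AA.val C.val fun x y => y.2 x.1 x.2
    have hμ : Function.Injective μ := by
      letI hring : Ring (AA ⊗[k] C) := Algebra.TensorProduct.instRing
      have := @RingHom.injective (AA ⊗[k] C) (Matrix (Fin N) (Fin N) k) hring.toNonAssocRing _ _ _ μ.toRingHom
      exact this
    have hdim : Module.finrank k (AA ⊗[k] C) = Module.finrank k (Matrix (Fin N) (Fin N) k) := by
      rw [Module.finrank_tensorProduct, hd]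
    let m₁ : A ⊗[k] C ≃ₐ[k] Matrix (Fin N) (Fin N) k :=
      (Algebra.TensorProduct.congr eA AlgEquiv.refl).trans (AlgEquiv.ofBijective μ
        ⟨hμ, LinearMap.range_eq_top.1 (Submodule.eq_top_of_finrank_eq
          (S := LinearMap.range μ.toLinearMap)
          ((LinearEquiv.ofInjective μ.toLinearMap hμ).finrank_eq.symm.trans hdim))⟩)
    let m₂ : C ⊗[k] Cᵐᵒᵖ ≃ₐ[k] Matrix (Fin (Module.finrank k C)) (Fin (Module.finrank k C)) k :=
      (AlgEquiv.ofBijective (AlgHom.mulLeftRight k C) CSADescent.mulLeftRight_bijective).trans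
        (algEquivMatrix (Module.finBasis k C))
    exact ⟨(matrixEquivTensor _ k A).trans ((Algebra.TensorProduct.congr AlgEquiv.refl m₂.symm).trans
      ((Algebra.TensorProduct.assoc k k k A C Cᵐᵒᵖ).symm.trans
        ((Algebra.TensorProduct.congr m₁ AlgEquiv.refl).trans
          ((Algebra.TensorProduct.comm k _ _).trans (matrixEquivTensor _ k Cᵐᵒᵖ).symm))))⟩
  · rw [← hCdim, (MulOpposite.opLinearEquiv k : C ≃ₗ[k] Cᵐᵒᵖ).finrank_eq]

/-- The index of a skew field divides the degree of every splitting field. -/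
theorem dvd_finrank_of_splits {D : Type v} [DivisionRing D] [Algebra k D] {d : ℕ}
    (hd : Module.finrank k D = d ^ 2) (h : Curves.Splits k D K) : d ∣ Module.finrank k K := by
  obtain ⟨n, hn, ⟨e⟩⟩ := h
  have hnd : n = d := by
    have h2 := finrank_of_splits e
    rw [hd, sq] at h2
    exact (Nat.mul_self_inj.1 h2).symm
  subst hnd
  let ρ : D →ₐ[k] Module.End K (Fin n → K) :=
    ((e.trans (algEquivMatrix (Pi.basisFun K (Fin n))).symm).toAlgHom.restrictScalars k).comp
      Algebra.TensorProduct.includeRight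
  letI : Module D (Fin n → K) := Module.compHom _ ρ.toRingHom
  have hD : ∀ (x : D) (v : Fin n → K), x • v = ρ x v := fun x v => rfl
  haveI : IsScalarTower k D (Fin n → K) := ⟨fun r x v => by rw [hD, hD, map_smul, LinearMap.smul_apply]⟩
  have ht := Module.finrank_mul_finrank k D (Fin n → K)
  rw [hd, Module.finrank_pi_fintype] at ht
  simp only [Finset.sum_const, Finset.card_univ, Fintype.card_fin, smul_eq_mul] at ht
  refine ⟨Module.finrank D (Fin n → K), ?_⟩
  refine Nat.eq_of_mul_eq_mul_left (Nat.pos_of_ne_zero hn) ?_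
  rw [← ht]; ring

end Groth.Agent.CSALib
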