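import Mathlib
import Groth.Agent.CSADescent.Tensor

/-!
# Two-sided ideals of a tensor product with a central simple algebra
-/

open scoped TensorProduct

namespace Groth.Agent.CSALib

universe u v w

variable {k : Type u} [Field k]

theorem twoSidedIdeal_eq_span (A : Type v) [Ring A] [Algebra k A] (K : Type w) [Ring K] [Algebra k K]
    [Algebra.IsCentral k K] [IsSimpleRing K] (I : TwoSidedIdeal (A ⊗[k] K)) :
    I = TwoSidedIdeal.span ((fun a : A => a ⊗ₜ[k] (1 : K)) '' {a : A | a ⊗ₜ[k] (1 : K) ∈ I}) := by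
  classical
  refine le_antisymm ?_ (TwoSidedIdeal.span_le.2 (by rintro _ ⟨a, ha, rfl⟩; exact ha))
  set J := TwoSidedIdeal.span ((fun a : A => a ⊗ₜ[k] (1 : K)) '' {a : A | a ⊗ₜ[k] (1 : K) ∈ I}) with hJ
  have hJI : J ≤ I := TwoSidedIdeal.span_le.2 (by rintro _ ⟨a, ha, rfl⟩; exact ha)
  let i : A →ₐ[k] A ⊗[k] K := Algebra.TensorProduct.includeLeft
  let I₀ : TwoSidedIdeal A := TwoSidedIdeal.comap i I
  have hI₀ : ∀ a, a ∈ I₀ ↔ a ⊗ₜ[k] (1 : K) ∈ I := fun a => TwoSidedIdeal.mem_comap i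
  let q := Ideal.Quotient.mkₐ k I₀.asIdeal
  let π : K ⊗[k] A →ₐ[k] K ⊗[k] (A ⧸ I₀.asIdeal) := Algebra.TensorProduct.map (AlgHom.id k K) q
  let σ : K ⊗[k] A ≃ₐ[k] A ⊗[k] K := Algebra.TensorProduct.comm k K A
  have hker : ∀ t, π t = 0 → σ t ∈ J := fun t ht => by
    have h : t ∈ RingHom.ker π := ht
    rw [Algebra.TensorProduct.lTensor_ker q (Ideal.Quotient.mkₐ_surjective k _)] at h
    refine Submodule.span_induction (p := fun t _ => σ t ∈ J) ?_ ?_ ?_ ?_ h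
    · rintro _ ⟨a, ha, rfl⟩
      refine TwoSidedIdeal.subset_span ⟨a, ?_, by simp [σ]⟩
      have : a ∈ I₀.asIdeal := Ideal.Quotient.eq_zero_iff_mem.1 ha
      exact (hI₀ a).1 (TwoSidedIdeal.mem_asIdeal.1 this)
    · simp [J.zero_mem]
    · intro x y _ _ hx hy; rw [map_add]; exact J.add_mem hx hy
    · intro c x _ hx; rw [smul_eq_mul, map_mul]; exact J.mul_mem_left _ _ hx
  have hsurj : Function.Surjective π :=
    Algebra.TensorProduct.map_surjective (AlgHom.id k K) q Function.surjective_id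
      (Ideal.Quotient.mkₐ_surjective k _)
  let Q : TwoSidedIdeal (K ⊗[k] (A ⧸ I₀.asIdeal)) := TwoSidedIdeal.mk' {y | ∃ t, σ t ∈ I ∧ π t = y}
    ⟨0, by simp [I.zero_mem], map_zero π⟩
    (fun {x y} ⟨t, ht, h⟩ ⟨t', ht', h'⟩ => ⟨t + t', by rw [map_add]; exact I.add_mem ht ht', by rw [map_add, h, h']⟩)
    (fun {x} ⟨t, ht, h⟩ => ⟨-t, by rw [map_neg]; exact I.neg_mem ht, by rw [map_neg, h]⟩)
    (fun {x y} ⟨t, ht, h⟩ => by
      obtain ⟨s, rfl⟩ := hsurj x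
      exact ⟨s * t, by rw [map_mul]; exact I.mul_mem_left _ _ ht, by rw [map_mul, h]⟩)
    (fun {x y} ⟨t, ht, h⟩ => by
      obtain ⟨s, rfl⟩ := hsurj y
      exact ⟨t * s, by rw [map_mul]; exact I.mul_mem_right _ _ ht, by rw [map_mul, h]⟩)
  have hQ : Q = ⊥ := by
    by_contra hne
    obtain ⟨c, hc, hcQ⟩ := CSADescent.exists_one_tmul_mem Q hne
    obtain ⟨a, rfl⟩ := Ideal.Quotient.mk_surjective c
    obtain ⟨t, ht, hπ⟩ := (TwoSidedIdeal.mem_mk' ..).1 hcQ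
    have h1 : σ ((1 : K) ⊗ₜ[k] a - t) ∈ J := hker _ (by rw [map_sub, hπ]; simp [π, q])
    have h2 : a ⊗ₜ[k] (1 : K) ∈ I := by
      have := I.add_mem (hJI h1) ht
      rw [map_sub, sub_add_cancel] at this
      simpa [σ] using this
    exact hc (Ideal.Quotient.eq_zero_iff_mem.2 (TwoSidedIdeal.mem_asIdeal.2 ((hI₀ a).2 h2)))
  intro x hx
  obtain ⟨t, rfl⟩ := σ.surjective x
  refine hker t ?_
  have : π t ∈ Q := (TwoSidedIdeal.mem_mk' ..).2 ⟨t, hx, rfl⟩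
  rwa [hQ, TwoSidedIdeal.mem_bot] at this

end Groth.Agent.CSALib
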